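import Mathlib

/-!
# Separable elements of algebras over a field

For a field `K` and a commutative `K`-algebra `A`, an element `a : A` is *separable* if it is a
root of a separable polynomial over `K`.  We show that the separable elements form a subalgebra,
that a finitely generated algebra generated by separable elements is étale, and that every element
of an étale algebra is separable.
-/

set_option autoImplicit false

universe u

open Polynomial

namespace Groth.Agent.Helper9.WEtField

section poly

variable {K : Type*} [Field K]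

/-- Two separable polynomials have a separable common multiple. -/
lemma exists_sep_common_multiple {g₁ g₂ : K[X]} (h₁ : g₁.Separable) (h₂ : g₂.Separable) :
    ∃ G : K[X], G.Separable ∧ g₁ ∣ G ∧ g₂ ∣ G := by
  classical
  obtain ⟨h, hh⟩ : EuclideanDomain.gcd g₁ g₂ ∣ g₂ := EuclideanDomain.gcd_dvd_right g₁ g₂
  obtain ⟨g₁', hg₁'⟩ : EuclideanDomain.gcd g₁ g₂ ∣ g₁ := EuclideanDomain.gcd_dvd_left g₁ g₂
  set d := EuclideanDomain.gcd g₁ g₂ with hd
  have hd0 : d ≠ 0 := by
    intro h0
    rw [h0, zero_mul] at hh
    exact h₂.ne_zero hh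
  have hcop' : IsCoprime g₁' h := by
    have hbez := EuclideanDomain.gcd_eq_gcd_ab g₁ g₂
    rw [← hd] at hbez
    refine ⟨EuclideanDomain.gcdA g₁ g₂, EuclideanDomain.gcdB g₁ g₂, ?_⟩
    apply mul_left_cancel₀ hd0
    calc d * (EuclideanDomain.gcdA g₁ g₂ * g₁' + EuclideanDomain.gcdB g₁ g₂ * h)
        = (d * g₁') * EuclideanDomain.gcdA g₁ g₂ + (d * h) * EuclideanDomain.gcdB g₁ g₂ := by ring
      _ = d := by rw [← hg₁', ← hh]; exact hbez.symm
      _ = d * 1 := (mul_one d).symm
  have hcop₂ : IsCoprime d h := by
    rw [hh] at h₂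
    exact h₂.isCoprime
  have hcop : IsCoprime g₁ h := by
    rw [hg₁']
    exact IsCoprime.mul_left hcop₂ hcop'
  have hsep_h : h.Separable := by
    rw [hh] at h₂
    exact h₂.of_mul_right
  refine ⟨g₁ * h, h₁.mul hsep_h hcop, dvd_mul_right _ _, ?_⟩
  rw [hh]
  exact mul_dvd_mul_right ⟨g₁', hg₁'⟩ h

/-- Every product of separable polynomials divides a power of a separable polynomial. -/
lemma exists_sep_of_mem_closure {F : K[X]}
    (hF : F ∈ Submonoid.closure {f : K[X] | f.Separable}) :
    ∃ g : K[X], g.Separable ∧ ∃ N : ℕ, F ∣ g ^ N := by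
  induction hF using Submonoid.closure_induction with
  | mem f hf => exact ⟨f, hf, 1, by rw [pow_one]⟩
  | one => exact ⟨1, separable_one, 0, by rw [pow_zero]⟩
  | mul F₁ F₂ _ _ ih₁ ih₂ =>
    obtain ⟨g₁, hg₁, N₁, hN₁⟩ := ih₁
    obtain ⟨g₂, hg₂, N₂, hN₂⟩ := ih₂
    obtain ⟨G, hG, hd₁, hd₂⟩ := exists_sep_common_multiple hg₁ hg₂
    refine ⟨G, hG, N₁ + N₂, ?_⟩
    rw [pow_add]
    exact mul_dvd_mul (hN₁.trans (pow_dvd_pow_of_dvd hd₁ _)) (hN₂.trans (pow_dvd_pow_of_dvd hd₂ _))

end poly

section sepElem

variable (K : Type*) [Field K] {A : Type*} [CommRing A] [Algebra K A]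

/-- An element of a `K`-algebra is separable if it is a root of a separable polynomial. -/
def IsSepElem (a : A) : Prop := ∃ f : K[X], f.Separable ∧ aeval a f = 0

variable {K}

lemma IsSepElem.map {B : Type*} [CommRing B] [Algebra K B] (φ : A →ₐ[K] B) {a : A}
    (h : IsSepElem K a) : IsSepElem K (φ a) := by
  obtain ⟨f, hf, h0⟩ := h
  exact ⟨f, hf, by rw [aeval_algHom_apply, h0, map_zero]⟩

lemma IsSepElem.of_map {B : Type*} [CommRing B] [Algebra K B] (φ : A →ₐ[K] B)
    (hφ : Function.Injective φ) {a : A} (h : IsSepElem K (φ a)) : IsSepElem K a := by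
  obtain ⟨f, hf, h0⟩ := h
  refine ⟨f, hf, hφ ?_⟩
  rw [← aeval_algHom_apply, h0, map_zero]

lemma isSepElem_algebraMap (c : K) : IsSepElem K (algebraMap K A c) :=
  ⟨X - C c, separable_X_sub_C, by simp⟩

/-- In a reduced algebra, a root of a product of separable polynomials is separable. -/
lemma isSepElem_of_mem_closure [IsReduced A] (a : A) {F : K[X]}
    (hF : F ∈ Submonoid.closure {f : K[X] | f.Separable}) (h0 : aeval a F = 0) :
    IsSepElem K a := by
  obtain ⟨g, hg, N, hN⟩ := exists_sep_of_mem_closure hF
  refine ⟨g, hg, ?_⟩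
  obtain ⟨q, hq⟩ := hN
  have : (aeval a g) ^ N = 0 := by
    rw [← map_pow, hq, map_mul, h0, zero_mul]
  exact IsReduced.eq_zero _ ⟨N, this⟩

lemma isUnit_aeval_derivative {a : A} {f : K[X]} (hf : f.Separable) (ha : aeval a f = 0) :
    IsUnit (aeval a (derivative f)) := by
  obtain ⟨u, v, huv⟩ := hf
  have := congrArg (aeval a) huv
  rw [map_add, map_mul, map_mul, ha, mul_zero, zero_add, map_one] at this
  exact IsUnit.of_mul_eq_one _ (by rw [mul_comm]; exact this)

end sepElem

section etale

variable {K : Type u} [Field K] {S : Type u} [CommRing S] [Algebra K S]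

/-- An algebra generated by separable elements is formally unramified. -/
theorem formallyUnramified_of_adjoin_sep (s : Set S) (hs : Algebra.adjoin K s = ⊤)
    (hsep : ∀ x ∈ s, IsSepElem K x) : Algebra.FormallyUnramified K S := by
  refine ⟨?_⟩
  have hD : ∀ x : S, KaehlerDifferential.D K S x = 0 := by
    have h0 : Set.EqOn (KaehlerDifferential.D K S) (0 : Derivation K S Ω[S⁄K]) s := by
      intro x hx
      obtain ⟨f, hf, hfx⟩ := hsep x hx
      have h1 := (KaehlerDifferential.D K S).map_aeval f x
      rw [hfx, map_zero] at h1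
      have hu := isUnit_aeval_derivative hf hfx
      have h2 : KaehlerDifferential.D K S x = 0 := by
        obtain ⟨u, hu⟩ := hu
        rw [← hu] at h1
        have := congrArg (fun m => (↑u⁻¹ : S) • m) h1
        simpa [smul_smul] using this.symm
      rw [h2]; rfl
    intro x
    have := Derivation.eqOn_adjoin h0 (show x ∈ Algebra.adjoin K s by rw [hs]; trivial)
    simpa using this
  rw [← Submodule.subsingleton_iff S, ← subsingleton_iff_bot_eq_top,
    ← KaehlerDifferential.span_range_derivation, eq_comm, Submodule.span_eq_bot]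
  rintro _ ⟨x, rfl⟩
  exact hD x

/-- An algebra generated by finitely many separable elements is étale. -/
theorem etale_of_adjoin_sep (s : Set S) (hfin : s.Finite) (hs : Algebra.adjoin K s = ⊤)
    (hsep : ∀ x ∈ s, IsSepElem K x) : Algebra.Etale K S := by
  haveI : Algebra.FormallyUnramified K S := formallyUnramified_of_adjoin_sep s hs hsep
  haveI : Algebra.FiniteType K S := ⟨⟨hfin.toFinset, by simpa using hs⟩⟩
  haveI : Algebra.FormallyEtale K S := Algebra.FormallyEtale.of_formallyUnramified_of_field K S
  haveI : Algebra.FinitePresentation K S := Algebra.FinitePresentation.of_finiteType.mp inferInstance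
  exact ⟨inferInstance, inferInstance⟩

/-- Every element of an étale algebra over a field is separable. -/
theorem isSepElem_of_etale [Algebra.Etale K S] (x : S) : IsSepElem K x := by
  classical
  obtain ⟨I, hI, Ai, hfield, halg, e, hA⟩ := (Algebra.Etale.iff_exists_algEquiv_prod K S).mp inferInstance
  haveI := Fintype.ofFinite I
  suffices h : IsSepElem K (e x) by
    have := h.map e.symm.toAlgHom
    simpa using this
  haveI : ∀ i, Algebra.IsSeparable K (Ai i) := fun i => (hA i).2
  have hF : (∏ i, minpoly K (e x i)) ∈ Submonoid.closure {f : K[X] | f.Separable} :=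
    Submonoid.prod_mem _ fun i _ => Submonoid.subset_closure (Algebra.IsSeparable.isSeparable K (e x i))
  refine isSepElem_of_mem_closure (e x) hF ?_
  funext i
  have : aeval (e x) (∏ i, minpoly K (e x i)) i = aeval (e x i) (∏ i, minpoly K (e x i)) := by
    have := aeval_algHom_apply (Pi.evalAlgHom K Ai i) (e x) (∏ i, minpoly K (e x i))
    simpa using this.symm
  rw [this, Pi.zero_apply]
  obtain ⟨q, hq⟩ := Finset.dvd_prod_of_mem (fun i => minpoly K (e x i)) (Finset.mem_univ i)
  rw [hq, map_mul, minpoly.aeval, zero_mul]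

end etale

section sub

variable (K : Type u) [Field K] (A : Type u) [CommRing A] [Algebra K A]

variable {K A} in
/-- All elements of a subalgebra generated by finitely many separable elements are separable. -/
lemma isSepElem_of_mem_adjoin {s : Set A} (hfin : s.Finite) (hsep : ∀ x ∈ s, IsSepElem K x) {a : A}
    (ha : a ∈ Algebra.adjoin K s) : IsSepElem K a := by
  have hs' : Algebra.adjoin K ((Subtype.val : Algebra.adjoin K s → A) ⁻¹' s) = ⊤ :=
    Algebra.adjoin_adjoin_coe_preimage
  have hfin' : ((Subtype.val : Algebra.adjoin K s → A) ⁻¹' s).Finite :=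
    hfin.preimage Subtype.val_injective.injOn
  haveI : Algebra.Etale K (Algebra.adjoin K s) :=
    etale_of_adjoin_sep _ hfin' hs'
      (fun x hx => IsSepElem.of_map (Algebra.adjoin K s).val Subtype.val_injective (hsep _ hx))
  have := isSepElem_of_etale (K := K) (⟨a, ha⟩ : Algebra.adjoin K s)
  exact this.map (Algebra.adjoin K s).val

/-- The subalgebra of separable elements. -/
def sepSub : Subalgebra K A where
  carrier := {a | IsSepElem K a}
  mul_mem' := by
    intro a b ha hb
    refine isSepElem_of_mem_adjoin (s := {a, b}) (Set.toFinite _) ?_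
      (mul_mem (Algebra.subset_adjoin (by simp)) (Algebra.subset_adjoin (by simp)))
    rintro x (rfl | rfl)
    · exact ha
    · exact hb
  add_mem' := by
    intro a b ha hb
    refine isSepElem_of_mem_adjoin (s := {a, b}) (Set.toFinite _) ?_
      (add_mem (Algebra.subset_adjoin (by simp)) (Algebra.subset_adjoin (by simp)))
    rintro x (rfl | rfl)
    · exact ha
    · exact hb
  algebraMap_mem' c := isSepElem_algebraMap c
  one_mem' := by simpa using isSepElem_algebraMap (A := A) (1 : K)
  zero_mem' := by simpa using isSepElem_algebraMap (A := A) (0 : K)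

variable {K A} in
lemma mem_sepSub {a : A} : a ∈ sepSub K A ↔ IsSepElem K a := Iff.rfl

variable {K A} in
/-- A separable element `t` satisfies `t = t² y` for some `y`. -/
lemma exists_eq_sq_mul_of_isSepElem {t : A} (h : IsSepElem K t) : ∃ y, t = t * t * y := by
  obtain ⟨f, hf, hft⟩ := h
  -- f = q * X + C c₀, q = r * X + C c₁
  set q := f.divX with hq
  set r := q.divX with hr
  have hf1 : f = q * X + C (f.coeff 0) := (divX_mul_X_add f).symm
  have hq1 : q = r * X + C (q.coeff 0) := (divX_mul_X_add q).symm
  have hc1 : q.coeff 0 = f.coeff 1 := by rw [hq, coeff_divX]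
  have e1 : aeval t q * t + algebraMap K A (f.coeff 0) = 0 := by
    rw [← hft]; conv_rhs => rw [hf1]
    simp
  have e2 : aeval t q = aeval t r * t + algebraMap K A (f.coeff 1) := by
    conv_lhs => rw [hq1]
    simp [hc1]
  by_cases h0 : f.coeff 0 = 0
  · have h1 : f.coeff 1 ≠ 0 := by
      intro h1
      obtain ⟨u, v, huv⟩ := hf
      have := congrArg (fun p => p.coeff 0) huv
      simp only [coeff_add, mul_coeff_zero, coeff_derivative, coeff_one_zero] at this
      rw [h0, h1] at this
      simp at this
    rw [h0, map_zero, add_zero, e2] at e1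
    refine ⟨- aeval t r * algebraMap K A (f.coeff 1)⁻¹, ?_⟩
    have h2 : algebraMap K A (f.coeff 1) * algebraMap K A (f.coeff 1)⁻¹ = 1 := by
      rw [← map_mul, mul_inv_cancel₀ h1, map_one]
    calc t = t * (algebraMap K A (f.coeff 1) * algebraMap K A (f.coeff 1)⁻¹) := by rw [h2, mul_one]
      _ = (algebraMap K A (f.coeff 1) * t) * algebraMap K A (f.coeff 1)⁻¹ := by ring
      _ = (- (aeval t r * t * t)) * algebraMap K A (f.coeff 1)⁻¹ := by
        congr 1
        linear_combination e1
      _ = t * t * (- aeval t r * algebraMap K A (f.coeff 1)⁻¹) := by ring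
  · refine ⟨- aeval t q * algebraMap K A (f.coeff 0)⁻¹, ?_⟩
    have h2 : algebraMap K A (f.coeff 0) * algebraMap K A (f.coeff 0)⁻¹ = 1 := by
      rw [← map_mul, mul_inv_cancel₀ h0, map_one]
    have h3 : t * (- aeval t q * algebraMap K A (f.coeff 0)⁻¹) = 1 := by
      calc t * (- aeval t q * algebraMap K A (f.coeff 0)⁻¹)
          = (- (aeval t q * t)) * algebraMap K A (f.coeff 0)⁻¹ := by ring
        _ = algebraMap K A (f.coeff 0) * algebraMap K A (f.coeff 0)⁻¹ := by
          congr 1
          linear_combination (-1 : A) * e1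
        _ = 1 := h2
    calc t = t * 1 := (mul_one t).symm
      _ = t * (t * (- aeval t q * algebraMap K A (f.coeff 0)⁻¹)) := by rw [h3]
      _ = t * t * (- aeval t q * algebraMap K A (f.coeff 0)⁻¹) := by ring

end sub

end Groth.Agent.Helper9.WEtField
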