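import Mathlib
import Groth.Agent.Lib.Helper9.WEtField.Basic
import Groth.Agent.Lib.Helper5.WEt.AbsFlat
import Groth.Agent.Lib.Helper2.WeaklyEtaleField

/-!
# Weakly étale algebras over a field

A `K`-algebra `B` over a field is weakly étale iff every element of `B` is separable over `K`.
-/

set_option autoImplicit false

universe u

open Polynomial TensorProduct

namespace Groth.Agent.Helper9.WEtField

variable (K : Type u) [Field K] (B : Type u) [CommRing B] [Algebra K B]

/-- If all elements are separable, the algebra is weakly étale. -/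
theorem weaklyEtale_of_forall_sep (h : ∀ b : B, IsSepElem K b) : Algebra.WeaklyEtale K B := by
  have hT : ∀ t : B ⊗[K] B, IsSepElem K t := by
    intro t
    rw [← mem_sepSub]
    induction t using TensorProduct.induction_on with
    | zero => exact zero_mem _
    | add x y hx hy => exact add_mem hx hy
    | tmul a b =>
      have h1 : a ⊗ₜ[K] b = (a ⊗ₜ[K] (1 : B)) * ((1 : B) ⊗ₜ[K] b) := by simp
      rw [h1]
      refine mul_mem ?_ ?_
      · exact (h a).map (Algebra.TensorProduct.includeLeft : B →ₐ[K] B ⊗[K] B)
      · exact (h b).map (Algebra.TensorProduct.includeRight : B →ₐ[K] B ⊗[K] B)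
  have hvnr : ∀ t : B ⊗[K] B, ∃ y, t = t * t * y := fun t => exists_eq_sq_mul_of_isSepElem (hT t)
  refine { flat := inferInstance, flat_lmul' := ?_ }
  letI := (Algebra.TensorProduct.lmul' K (S := B)).toRingHom.toAlgebra
  exact Helper5.WEt.flat_of_vnr hvnr B

/-- A weakly étale algebra over a field is absolutely flat. -/
theorem flat_of_weaklyEtale_field [Algebra.WeaklyEtale K B] (N : Type u) [AddCommGroup N]
    [Module B N] : Module.Flat B N := by
  letI : Module K N := Module.compHom N (algebraMap K B)
  haveI : IsScalarTower K B N := IsScalarTower.of_compHom K B N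
  exact Helper5.WEt.flat_of_flat_lmul' K B (Algebra.WeaklyEtale.flat_lmul' K B) N

variable {B} in
/-- In a ring all of whose cyclic quotients are flat, `x ∈ (x²)`. -/
lemma exists_eq_sq_mul_of_flat {C : Type*} [CommRing C] (x : C)
    (h : Module.Flat C (C ⧸ Ideal.span {x})) : ∃ d, x = x * x * d := by
  have hrel : ∑ i : Unit, (fun _ => x) i • (fun _ => (Ideal.Quotient.mk (Ideal.span {x}) 1)) i = 0 := by
    simp only [Finset.univ_unique, Finset.sum_singleton]
    rw [← Ideal.Quotient.mk_eq_mk, ← Submodule.Quotient.mk_smul]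
    simp
  obtain ⟨k, a, y, hy, ha⟩ := Module.Flat.isTrivialRelation_of_sum_smul_eq_zero hrel
  choose c hc using fun j => Ideal.Quotient.mk_surjective (y j)
  have h1 : Ideal.Quotient.mk (Ideal.span {x}) (1 - ∑ j, a () j * c j) = 0 := by
    have hy' : (Ideal.Quotient.mk (Ideal.span {x})) 1 = ∑ j, a () j • y j := hy ()
    rw [map_sub, map_sum, hy', sub_eq_zero]
    refine Finset.sum_congr rfl fun j _ => ?_
    rw [← hc j, map_mul]
    rfl
  rw [Ideal.Quotient.eq_zero_iff_mem, Ideal.mem_span_singleton'] at h1
  obtain ⟨d, hd⟩ := h1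
  refine ⟨d, ?_⟩
  have h2 : ∀ j, x * a () j = 0 := fun j => by simpa using ha j
  have h3 : x * (1 - ∑ j, a () j * c j) = x := by
    rw [mul_sub, mul_one, Finset.mul_sum]
    have : ∑ j, x * (a () j * c j) = 0 :=
      Finset.sum_eq_zero fun j _ => by rw [← mul_assoc, h2, zero_mul]
    rw [this, sub_zero]
  calc x = x * (1 - ∑ j, a () j * c j) := h3.symm
    _ = x * (d * x) := by rw [hd]
    _ = x * x * d := by ring

/-- Residue fields of a weakly étale algebra over a field are separable algebraic. -/
theorem isSeparable_residueField [Algebra.WeaklyEtale K B] (q : Ideal B) [q.IsPrime] :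
    Algebra.IsSeparable K q.ResidueField := by
  haveI : Algebra.WeaklyEtale B (Localization.AtPrime q) :=
    Helper5.WEt.weaklyEtale_of_isLocalization q.primeCompl _
  haveI : Algebra.WeaklyEtale K (Localization.AtPrime q) :=
    Algebra.WeaklyEtale.trans K B (Localization.AtPrime q)
  haveI : Module.Flat (Localization.AtPrime q) q.ResidueField :=
    flat_of_weaklyEtale_field K (Localization.AtPrime q) q.ResidueField
  haveI : Algebra.IsEpi (Localization.AtPrime q) q.ResidueField :=
    Algebra.isEpi_of_surjective_algebraMap _ _ IsLocalRing.residue_surjective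
  haveI : Algebra.WeaklyEtale (Localization.AtPrime q) q.ResidueField :=
    Helper5.WEt.weaklyEtale_of_isEpi_of_flat _ _
  haveI : Algebra.WeaklyEtale K q.ResidueField :=
    Algebra.WeaklyEtale.trans K (Localization.AtPrime q) q.ResidueField
  exact Groth.Agent.Helper2.WE.isSeparable_of_weaklyEtale K q.ResidueField

/-- Every element of a weakly étale algebra over a field is separable. -/
theorem isSepElem_of_weaklyEtale [Algebra.WeaklyEtale K B] (b : B) : IsSepElem K b := by
  haveI : IsReduced B := Helper5.WEt.isReduced_of_weaklyEtale K B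
  -- the ideal of elements killing `F(b)` for some product `F` of separable polynomials
  let J : Ideal B :=
    { carrier := {s | ∃ F ∈ Submonoid.closure {f : K[X] | f.Separable}, s * aeval b F = 0}
      zero_mem' := ⟨1, one_mem _, by simp⟩
      add_mem' := by
        rintro s₁ s₂ ⟨F₁, hF₁, h₁⟩ ⟨F₂, hF₂, h₂⟩
        refine ⟨F₁ * F₂, mul_mem hF₁ hF₂, ?_⟩
        rw [map_mul]
        linear_combination (aeval b F₂) * h₁ + (aeval b F₁) * h₂
      smul_mem' := by
        rintro c s ⟨F, hF, h⟩
        refine ⟨F, hF, ?_⟩
        rw [smul_eq_mul, mul_assoc, h, mul_zero] }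
  have hJ : J = ⊤ := by
    by_contra hne
    obtain ⟨m, hm, hJm⟩ := Ideal.exists_le_maximal J hne
    haveI : m.IsPrime := hm.isPrime
    haveI := isSeparable_residueField K B m
    set f := minpoly K (algebraMap B m.ResidueField b) with hf
    have hfsep : f.Separable := Algebra.IsSeparable.isSeparable K _
    have hz : aeval b f ∈ m := by
      rw [← Ideal.algebraMap_residueField_eq_zero, ← aeval_algebraMap_apply, hf, minpoly.aeval]
    obtain ⟨d, hd⟩ := exists_eq_sq_mul_of_flat (aeval b f)
      (flat_of_weaklyEtale_field K B (B ⧸ Ideal.span {aeval b f}))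
    have hs : (1 - aeval b f * d) ∈ J := by
      refine ⟨f, Submonoid.subset_closure hfsep, ?_⟩
      rw [sub_mul, one_mul, sub_eq_zero]
      rw [mul_comm (aeval b f * d), ← mul_assoc]
      exact hd
    have h1 : (1 : B) ∈ m := by
      have h2 : aeval b f * d ∈ m := m.mul_mem_right _ hz
      have := m.add_mem (hJm hs) h2
      rwa [sub_add_cancel] at this
    exact hm.ne_top ((Ideal.eq_top_iff_one _).mpr h1)
  have h1 : (1 : B) ∈ J := by rw [hJ]; trivial
  obtain ⟨F, hF, hF0⟩ := h1
  rw [one_mul] at hF0
  exact isSepElem_of_mem_closure b hF hF0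

/-- **Characterisation**: weakly étale over a field iff all elements are separable. -/
theorem weaklyEtale_iff_forall_sep : Algebra.WeaklyEtale K B ↔ ∀ b : B, IsSepElem K b :=
  ⟨fun _ => isSepElem_of_weaklyEtale K B, weaklyEtale_of_forall_sep K B⟩

end Groth.Agent.Helper9.WEtField
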