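import Mathlib
import Groth.Agent.Lib.Helper9.WEtField.Main
import Groth.Agent.S9624
import Groth.Agent.S2150

/-!
# Base change of the subalgebra of separable elements
-/

set_option autoImplicit false

universe u

open Polynomial TensorProduct

namespace Groth.Agent.Helper9.WEtField

section decomp

variable (Ω : Type u) [Field Ω] [IsAlgClosed Ω] (R : Type u) [CommRing R] [Algebra Ω R]

/-- Over an algebraically closed field, a separable element is a linear combination of
idempotents. -/
theorem exists_idempotent_decomp (z : R) (hz : IsSepElem Ω z) :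
    ∃ (ι : Type u) (_ : Fintype ι) (ω : ι → Ω) (e : ι → R),
      (∀ i, IsIdempotentElem (e i)) ∧ z = ∑ i, ω i • e i := by
  classical
  have hs' : Algebra.adjoin Ω ((Subtype.val : Algebra.adjoin Ω ({z} : Set R) → R) ⁻¹' {z}) = ⊤ :=
    Algebra.adjoin_adjoin_coe_preimage
  have hfin' : ((Subtype.val : Algebra.adjoin Ω ({z} : Set R) → R) ⁻¹' {z}).Finite :=
    (Set.finite_singleton z).preimage Subtype.val_injective.injOn
  haveI : Algebra.Etale Ω (Algebra.adjoin Ω ({z} : Set R)) :=
    etale_of_adjoin_sep _ hfin' hs' (fun x hx => by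
      refine IsSepElem.of_map (Algebra.adjoin Ω ({z} : Set R)).val Subtype.val_injective ?_
      have : (x : R) = z := hx
      simpa [this] using hz)
  obtain ⟨I, hI, Ai, hfield, halg, eqv, hA⟩ :=
    (Algebra.Etale.iff_exists_algEquiv_prod Ω (Algebra.adjoin Ω ({z} : Set R))).mp inferInstance
  haveI := Fintype.ofFinite I
  have hbij : ∀ i, Function.Bijective (algebraMap Ω (Ai i)) := fun i => by
    haveI : Module.Finite Ω (Ai i) := (hA i).1
    exact IsAlgClosed.algebraMap_bijective_of_isIntegral
  set zz : Algebra.adjoin Ω ({z} : Set R) := ⟨z, Algebra.subset_adjoin rfl⟩ with hzz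
  choose ω hω using fun i => (hbij i).2 (eqv zz i)
  refine ⟨I, inferInstance, ω, fun i => (eqv.symm (Pi.single i 1) : Algebra.adjoin Ω ({z} : Set R)),
    fun i => ?_, ?_⟩
  · have : IsIdempotentElem (Pi.single i 1 : ∀ i, Ai i) := by
      unfold IsIdempotentElem
      rw [← Pi.single_mul, one_mul]
    exact (this.map eqv.symm).map (Algebra.adjoin Ω ({z} : Set R)).val
  · have h1 : eqv zz = ∑ i, ω i • (Pi.single i 1 : ∀ i, Ai i) := by
      funext j
      rw [Finset.sum_apply, Finset.sum_eq_single j]
      · rw [Pi.smul_apply, Pi.single_eq_same, Algebra.smul_def, mul_one, hω]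
      · intro i _ hij
        rw [Pi.smul_apply, Pi.single_eq_of_ne hij.symm, smul_zero]
      · intro h; exact absurd (Finset.mem_univ j) h
    have h2 : zz = ∑ i, ω i • eqv.symm (Pi.single i 1) := by
      apply eqv.injective
      rw [h1, map_sum]
      refine Finset.sum_congr rfl fun i _ => ?_
      rw [map_smul, AlgEquiv.apply_symm_apply]
    have h3 := congrArg (Algebra.adjoin Ω ({z} : Set R)).val h2
    rw [map_sum] at h3
    simpa [hzz] using h3

end decomp

section descend

variable (K Ω : Type u) [Field K] [Field Ω] [Algebra K Ω]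

/-- Idempotents of `R ⊗ Ω` over the separable closure of `K` in `Ω` come from `R`. -/
theorem idempotent_descends_sepClosure (R : Type u) [CommRing R]
    [Algebra (separableClosure K Ω) R]
    (x : R ⊗[separableClosure K Ω] Ω) (hx : IsIdempotentElem x) :
    ∃ ε : R, IsIdempotentElem ε ∧ ε ⊗ₜ[separableClosure K Ω] (1 : Ω) = x := by
  have h2150 := (Groth.Agent.S2150.result (k := separableClosure K Ω) (K := Ω)).mpr (by
    intro α hα
    have : α ∈ separableClosure (separableClosure K Ω) Ω := mem_separableClosure_iff.mpr hα
    rw [separableClosure.separableClosure_eq_bot, IntermediateField.mem_bot] at this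
    exact this)
  obtain ⟨ε, ⟨hε, hεx⟩, -⟩ := Groth.Agent.S9624.result (k := separableClosure K Ω) (R := R) (S := Ω)
    (fun k' _ _ => by
      haveI := h2150 k'
      infer_instance) x hx
  exact ⟨ε, hε, by rw [← hεx]; rfl⟩

end descend

section galois

variable (K : Type u) [Field K] (A : Type u) [CommRing A] [Algebra K A]

/-- The quotient map (of `K`-modules) by the subalgebra of separable elements. -/
noncomputable def qmap : A →ₗ[K] A ⧸ Subalgebra.toSubmodule (sepSub K A) :=
  (Subalgebra.toSubmodule (sepSub K A)).mkQ

variable {K A} in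
lemma qmap_eq_zero_iff {a : A} : qmap K A a = 0 ↔ IsSepElem K a := by
  unfold qmap
  rw [Submodule.mkQ_apply, Submodule.Quotient.mk_eq_zero]
  rfl

/-- Galois descent: a `K`-separable element of `K' ⊗ A` has `K`-separable coordinates. -/
theorem baseChange_qmap_eq_zero_of_isSepElem (K' : Type u) [Field K'] [Algebra K K']
    [FiniteDimensional K K'] [IsGalois K K'] (x : K' ⊗[K] A) (hx : IsSepElem K x) :
    (qmap K A).baseChange K' x = 0 := by
  classical
  set b := Module.finBasis K K' with hb
  obtain ⟨c, hc⟩ := TensorProduct.eq_repr_basis_left b x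
  have hxsum : x = ∑ j, b j ⊗ₜ[K] c j := by
    rw [← hc, Finsupp.sum_fintype]
    intro i; exact tmul_zero _ _
  set bd := (Algebra.traceForm K K').dualBasis (traceForm_nondegenerate K K') b with hbd
  have hdual : ∀ i j, Algebra.trace K K' (bd i * b j) = if j = i then 1 else 0 := by
    intro i j
    have := (Algebra.traceForm K K').apply_dualBasis_left (traceForm_nondegenerate K K') b i j
    rwa [Algebra.traceForm_apply] at this
  have hsepK' : ∀ y : K', IsSepElem K y := fun y =>
    ⟨minpoly K y, Algebra.IsSeparable.isSeparable K y, minpoly.aeval K y⟩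
  -- the coordinates are separable
  have hcoord : ∀ i, IsSepElem K (c i) := by
    intro i
    have hy : IsSepElem K (∑ σ : K' ≃ₐ[K] K',
        Algebra.TensorProduct.map (σ : K' →ₐ[K] K') (AlgHom.id K A)
          ((bd i ⊗ₜ[K] (1 : A)) * x)) := by
      rw [← mem_sepSub]
      refine sum_mem fun σ _ => ?_
      rw [mem_sepSub]
      refine IsSepElem.map _ ?_
      rw [← mem_sepSub]
      refine mul_mem ?_ hx
      exact (hsepK' (bd i)).map (Algebra.TensorProduct.includeLeft : K' →ₐ[K] K' ⊗[K] A)
    have hcalc : (∑ σ : K' ≃ₐ[K] K',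
        Algebra.TensorProduct.map (σ : K' →ₐ[K] K') (AlgHom.id K A)
          ((bd i ⊗ₜ[K] (1 : A)) * x)) = (1 : K') ⊗ₜ[K] c i := by
      have h1 : ∀ σ : K' ≃ₐ[K] K', Algebra.TensorProduct.map (σ : K' →ₐ[K] K') (AlgHom.id K A)
          ((bd i ⊗ₜ[K] (1 : A)) * x) = ∑ j, σ (bd i * b j) ⊗ₜ[K] c j := by
        intro σ
        rw [hxsum, Finset.mul_sum, map_sum]
        refine Finset.sum_congr rfl fun j _ => ?_
        rw [Algebra.TensorProduct.tmul_mul_tmul, one_mul, Algebra.TensorProduct.map_tmul]
        rfl
      simp_rw [h1]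
      rw [Finset.sum_comm]
      simp_rw [← TensorProduct.sum_tmul, ← trace_eq_sum_automorphisms, hdual]
      rw [Finset.sum_eq_single i]
      · simp
      · intro j _ hji
        simp [hji]
      · intro h; exact absurd (Finset.mem_univ i) h
    rw [hcalc] at hy
    exact IsSepElem.of_map (Algebra.TensorProduct.includeRight : A →ₐ[K] K' ⊗[K] A)
      (Algebra.TensorProduct.includeRight_injective (algebraMap K K').injective) hy
  rw [hxsum, map_sum]
  refine Finset.sum_eq_zero fun j _ => ?_
  rw [LinearMap.baseChange_tmul, qmap_eq_zero_iff.mpr (hcoord j), tmul_zero]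

end galois

section naturality

variable {K : Type u} [Field K] {A Q : Type u} [CommRing A] [Algebra K A] [AddCommGroup Q] [Module K Q]

/-- Naturality of `baseChange` in the field. -/
lemma baseChange_map {F F' : Type u} [Field F] [Field F'] [Algebra K F] [Algebra K F']
    (φ : F →ₐ[K] F') (q : A →ₗ[K] Q) (y : F ⊗[K] A) :
    q.baseChange F' (Algebra.TensorProduct.map φ (AlgHom.id K A) y) =
      TensorProduct.map φ.toLinearMap LinearMap.id (q.baseChange F y) := by
  induction y using TensorProduct.induction_on with
  | zero => simp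
  | add x y hx hy => simp only [map_add, hx, hy]
  | tmul l a => simp

end naturality

section infiniteGalois

variable (K : Type u) [Field K] (A : Type u) [CommRing A] [Algebra K A]

/-- Galois descent for a possibly infinite Galois extension. -/
theorem baseChange_qmap_eq_zero_of_isSepElem' (ks : Type u) [Field ks] [Algebra K ks]
    [IsGalois K ks] (x : ks ⊗[K] A) (hx : IsSepElem K x) :
    (qmap K A).baseChange ks x = 0 := by
  classical
  obtain ⟨S, hS⟩ := TensorProduct.exists_finset x
  set T : Set ks := ((S.image fun p => p.1 : Finset ks) : Set ks) with hT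
  haveI : Finite T := by rw [hT]; exact Finset.finite_toSet _
  haveI : FiniteDimensional K (IntermediateField.adjoin K T) :=
    IntermediateField.finiteDimensional_adjoin fun y _ => (Algebra.IsSeparable.isSeparable K y).isIntegral
  set K' := IntermediateField.normalClosure K (IntermediateField.adjoin K T) ks with hK'
  have hmem : ∀ p ∈ S, p.1 ∈ K' := by
    intro p hp
    have h1 : p.1 ∈ IntermediateField.adjoin K T :=
      IntermediateField.subset_adjoin K T (by
        rw [hT]; exact Finset.mem_coe.mpr (Finset.mem_image_of_mem _ hp))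
    exact (IntermediateField.le_normalClosure _) h1
  -- lift of x to K' ⊗ A
  set x' : K' ⊗[K] A := ∑ p ∈ S.attach, (⟨p.1.1, hmem p.1 p.2⟩ : K') ⊗ₜ[K] p.1.2 with hx'
  have hmap : Algebra.TensorProduct.map K'.val (AlgHom.id K A) x' = x := by
    rw [hx', map_sum, hS, ← Finset.sum_attach S]
    refine Finset.sum_congr rfl fun p _ => ?_
    rw [Algebra.TensorProduct.map_tmul]
    rfl
  have hinj : Function.Injective (Algebra.TensorProduct.map K'.val (AlgHom.id K A)) := by
    have := Module.Flat.rTensor_preserves_injective_linearMap (M := A) K'.val.toLinearMap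
      Subtype.val_injective
    exact this
  have hx'sep : IsSepElem K x' := by
    apply IsSepElem.of_map _ hinj
    rw [hmap]; exact hx
  have h0 := baseChange_qmap_eq_zero_of_isSepElem K A K' x' hx'sep
  rw [← hmap, baseChange_map, h0, map_zero]

end infiniteGalois

section main

variable (K : Type u) [Field K] (A : Type u) [CommRing A] [Algebra K A]

lemma isSepElem_of_isIdempotentElem {F : Type*} [Field F] {R : Type*} [CommRing R] [Algebra F R]
    {e : R} (he : IsIdempotentElem e) : IsSepElem F e := by
  refine ⟨X * (X - C 1), ?_, ?_⟩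
  · refine Separable.mul separable_X (separable_X_sub_C) ⟨1, -1, ?_⟩
    simp
  · simp only [map_mul, aeval_X, map_sub, aeval_C, map_one]
    rw [mul_sub, mul_one, he.eq, sub_self]

/-- Every idempotent of `Ω ⊗ A` lies in `Ω ⊗ π(A)` when `Ω` is separably closed. -/
theorem baseChange_qmap_idempotent (Ω : Type u) [Field Ω] [Algebra K Ω] [IsSepClosed Ω]
    (e : Ω ⊗[K] A) (he : IsIdempotentElem e) : (qmap K A).baseChange Ω e = 0 := by
  haveI : IsGalois K (separableClosure K Ω) := inferInstance
  set Φ := Algebra.TensorProduct.cancelBaseChange K (separableClosure K Ω) Ω Ω A with hΦdef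
  set e₂ : (separableClosure K Ω ⊗[K] A) ⊗[separableClosure K Ω] Ω :=
    Algebra.TensorProduct.comm (separableClosure K Ω) Ω (separableClosure K Ω ⊗[K] A) (Φ.symm e)
    with he₂def
  have he₂ : IsIdempotentElem e₂ := (he.map Φ.symm).map _
  obtain ⟨ε, hε, hεe⟩ := idempotent_descends_sepClosure K Ω (separableClosure K Ω ⊗[K] A) e₂ he₂
  set ψ := Algebra.TensorProduct.map (separableClosure K Ω).val (AlgHom.id K A) with hψ
  have hΦ : ∀ r : separableClosure K Ω ⊗[K] A,
      Φ ((1 : Ω) ⊗ₜ[separableClosure K Ω] r) = ψ r := by
    intro r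
    induction r using TensorProduct.induction_on with
    | zero => simp
    | add x y hx hy => rw [tmul_add, map_add, hx, hy, map_add]
    | tmul s a =>
      rw [hΦdef, Algebra.TensorProduct.cancelBaseChange_tmul, hψ, Algebra.TensorProduct.map_tmul]
      congr 1
      rw [Algebra.smul_def, mul_one]
      rfl
  have he' : e = ψ ε := by
    have h1 : Φ.symm e = (1 : Ω) ⊗ₜ[separableClosure K Ω] ε := by
      have h2 := congrArg
        (Algebra.TensorProduct.comm (separableClosure K Ω) (separableClosure K Ω ⊗[K] A) Ω) hεe
      rw [Algebra.TensorProduct.comm_tmul] at h2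
      rw [h2, he₂def]
      exact ((Algebra.TensorProduct.comm (separableClosure K Ω) Ω
        (separableClosure K Ω ⊗[K] A)).symm_apply_apply _).symm
    rw [← hΦ, ← h1, AlgEquiv.apply_symm_apply]
  have hsep : IsSepElem K ε := isSepElem_of_isIdempotentElem hε
  rw [he', baseChange_map,
    baseChange_qmap_eq_zero_of_isSepElem' K A (separableClosure K Ω) ε hsep, map_zero]

variable (L : Type u) [Field L] [Algebra K L]

/-- A separable element of `L ⊗ A` over `L` lies in the image of `L ⊗ π(A)`. -/
theorem baseChange_qmap_eq_zero_of_isSepElem_field (z : L ⊗[K] A) (hz : IsSepElem L z) :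
    (qmap K A).baseChange L z = 0 := by
  -- pass to an algebraic closure of `L`
  set j : L ⊗[K] A →ₐ[L] AlgebraicClosure L ⊗[K] A :=
    Algebra.TensorProduct.map (Algebra.ofId L (AlgebraicClosure L)) (AlgHom.id K A) with hj
  have h2 : ∀ y : L ⊗[K] A, j y = Algebra.TensorProduct.map
      ((Algebra.ofId L (AlgebraicClosure L)).restrictScalars K) (AlgHom.id K A) y := by
    intro y
    rw [hj]
    induction y using TensorProduct.induction_on with
    | zero => simp
    | add x y hx hy => simp only [map_add, hx, hy]
    | tmul l a => simp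
  have hz' : IsSepElem (AlgebraicClosure L) (j z) := by
    obtain ⟨f, hf, hfz⟩ := hz
    refine ⟨f.map (algebraMap L (AlgebraicClosure L)), hf.map, ?_⟩
    rw [aeval_map_algebraMap, aeval_algHom_apply, hfz, map_zero]
  obtain ⟨ι, _, ω, e, he, hsum⟩ :=
    exists_idempotent_decomp (AlgebraicClosure L) (AlgebraicClosure L ⊗[K] A) (j z) hz'
  have h1 : (qmap K A).baseChange (AlgebraicClosure L) (j z) = 0 := by
    rw [hsum, map_sum]
    refine Finset.sum_eq_zero fun i _ => ?_
    rw [map_smul, baseChange_qmap_idempotent K A (AlgebraicClosure L) (e i) (he i), smul_zero]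
  rw [h2 z, baseChange_map] at h1
  have hinj : Function.Injective (TensorProduct.map
      ((Algebra.ofId L (AlgebraicClosure L)).restrictScalars K).toLinearMap
      (LinearMap.id : (A ⧸ Subalgebra.toSubmodule (sepSub K A)) →ₗ[K] _)) :=
    Module.Flat.rTensor_preserves_injective_linearMap
      (M := A ⧸ Subalgebra.toSubmodule (sepSub K A))
      ((Algebra.ofId L (AlgebraicClosure L)).restrictScalars K).toLinearMap
      (algebraMap L (AlgebraicClosure L)).injective
  exact hinj (by rw [h1, map_zero])

/-- **Base change** of the subalgebra of separable elements. -/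
theorem sepSub_baseChange :
    sepSub L (L ⊗[K] A) = Algebra.adjoin L
      ((Algebra.TensorProduct.includeRight : A →ₐ[K] L ⊗[K] A) '' (sepSub K A : Set A)) := by
  apply le_antisymm
  · have hrange : ∀ w : L ⊗[K] (Subalgebra.toSubmodule (sepSub K A)),
        (Subalgebra.toSubmodule (sepSub K A)).subtype.lTensor L w ∈ Algebra.adjoin L
          ((Algebra.TensorProduct.includeRight : A →ₐ[K] L ⊗[K] A) '' (sepSub K A : Set A)) := by
      intro w
      induction w using TensorProduct.induction_on with
      | zero => simp
      | add x y hx hy =>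
        rw [map_add]
        exact add_mem hx hy
      | tmul l v =>
        rw [LinearMap.lTensor_tmul]
        have : l ⊗ₜ[K] ((Subalgebra.toSubmodule (sepSub K A)).subtype v) =
            l • ((1 : L) ⊗ₜ[K] (v : A)) := by
          rw [TensorProduct.smul_tmul', smul_eq_mul, mul_one]; rfl
        rw [this]
        exact Subalgebra.smul_mem _ (Algebra.subset_adjoin (Set.mem_image_of_mem _ v.2)) l
    intro z hz
    have h0 := baseChange_qmap_eq_zero_of_isSepElem_field K A L z hz
    have hex : Function.Exact
        ((Subalgebra.toSubmodule (sepSub K A)).subtype.lTensor L)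
        ((qmap K A).lTensor L) :=
      lTensor_exact L (LinearMap.exact_subtype_mkQ _) (Submodule.mkQ_surjective _)
    have h0' : (qmap K A).lTensor L z = 0 := h0
    obtain ⟨w, rfl⟩ := (hex z).mp h0'
    exact hrange w
  · rw [Algebra.adjoin_le_iff]
    rintro _ ⟨a, ha, rfl⟩
    obtain ⟨f, hf, hfa⟩ := (ha : IsSepElem K a)
    refine ⟨f.map (algebraMap K L), hf.map, ?_⟩
    rw [aeval_map_algebraMap, aeval_algHom_apply, hfa, map_zero]

end main

end Groth.Agent.Helper9.WEtField
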