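import Mathlib
import Groth.Prelude.Def_EtAlgD
import Groth.Agent.Lib.Helper9.WEtField.Main

/-!
# The maximal weakly étale subalgebra over a field is the subalgebra of separable elements
-/

set_option autoImplicit false

universe u

open Polynomial

namespace Groth.Agent.Helper9.WEtField

variable (K : Type u) [Field K] (A : Type u) [CommRing A] [Algebra K A]

theorem maxWeaklyEtale_eq : EtAlgD.maxWeaklyEtale K A = sepSub K A := by
  apply le_antisymm
  · refine sSup_le fun S hS => ?_
    intro x hx
    have : Algebra.WeaklyEtale K S := hS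
    exact (isSepElem_of_weaklyEtale K S ⟨x, hx⟩).map S.val
  · refine le_sSup ?_
    refine weaklyEtale_of_forall_sep K (sepSub K A) fun x => ?_
    exact IsSepElem.of_map (sepSub K A).val Subtype.val_injective x.2

variable {K A}

lemma mem_maxWeaklyEtale_iff {a : A} : a ∈ EtAlgD.maxWeaklyEtale K A ↔ IsSepElem K a := by
  rw [maxWeaklyEtale_eq]; rfl

/-- A nilpotent separable element vanishes. -/
lemma IsSepElem.eq_zero_of_isNilpotent {t : A} (h : IsSepElem K t) (hn : IsNilpotent t) : t = 0 := by
  obtain ⟨y, hy⟩ := exists_eq_sq_mul_of_isSepElem h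
  obtain ⟨n, hn⟩ := hn
  have key : ∀ m : ℕ, t = t ^ (m + 1) * y ^ m := by
    intro m
    induction m with
    | zero => simp
    | succ m ih =>
      calc t = t * t * y := hy
        _ = (t ^ (m + 1) * y ^ m) * t * y := by rw [← ih]
        _ = t ^ (m + 1 + 1) * y ^ (m + 1) := by ring
  rw [key n, pow_succ, hn, zero_mul, zero_mul]

/-- Separable elements lift uniquely along the quotient by the nilradical. -/
lemma exists_isSepElem_lift (a : A)
    (h : IsSepElem K (Ideal.Quotient.mk (nilradical A) a)) :
    ∃ a' : A, IsSepElem K a' ∧ Ideal.Quotient.mk (nilradical A) a' = Ideal.Quotient.mk (nilradical A) a := by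
  obtain ⟨f, hf, hfa⟩ := h
  have h1 : IsNilpotent (aeval a f) := by
    have : Ideal.Quotient.mk (nilradical A) (aeval a f) = 0 := by
      have := aeval_algHom_apply (Ideal.Quotient.mkₐ K (nilradical A)) a f
      simpa [hfa] using this.symm
    rw [Ideal.Quotient.eq_zero_iff_mem, mem_nilradical] at this
    exact this
  have h2 : IsUnit (aeval a (derivative f)) := by
    obtain ⟨u, v, huv⟩ := hf
    have := congrArg (aeval a) huv
    rw [map_add, map_mul, map_mul, map_one] at this
    have h3 : aeval a v * aeval a (derivative f) = 1 - aeval a u * aeval a f := by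
      rw [← this]; ring
    have h4 : IsUnit (1 - aeval a u * aeval a f) :=
      IsNilpotent.isUnit_one_sub ((Commute.all _ _).isNilpotent_mul_left h1)
    rw [← h3] at h4
    exact isUnit_of_mul_isUnit_right h4
  obtain ⟨r, ⟨hr1, hr2⟩, -⟩ := existsUnique_nilpotent_sub_and_aeval_eq_zero h1 h2
  refine ⟨r, ⟨f, hf, hr2⟩, ?_⟩
  rw [eq_comm, Ideal.Quotient.eq, mem_nilradical]
  exact hr1

end Groth.Agent.Helper9.WEtField
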